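import Groth.Agent.BertiniAff.Basic
import Groth.Agent.EGA41Lib.IntDim
import Mathlib.FieldTheory.IsAlgClosed.AlgebraicClosure
import Mathlib.FieldTheory.Minpoly.Field
import Mathlib.RingTheory.AdjoinRoot
import Mathlib.Algebra.MvPolynomial.Funext
import Mathlib.RingTheory.Jacobson.Ring
import Mathlib.RingTheory.TensorProduct.Finite
import Mathlib.RingTheory.IntegralClosure.Algebra.Basic
import Mathlib.RingTheory.Ideal.GoingUp

/-! Translates `x ↦ x + t ^ N g` of a cycle avoiding finitely many closed points. -/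

set_option linter.style.haveILetI false
set_option autoImplicit false

universe u v w

open scoped TensorProduct

namespace Groth.Agent.MovLemLib

open MvPolynomial

variable {k : Type u} [Field k] (r d N : ℕ)

local notation "V" => Fin r ⊕ (Unit ⊕ Fin d)
local notation "tt" => (Sum.inr (Sum.inl ()) : Fin r ⊕ (Unit ⊕ Fin d))

theorem exists_avoid_face (hr : 1 ≤ r) (I : Ideal (MvPolynomial V k)) (ht0 : I ⊔ Ideal.span {X tt} = ⊤)
    (J : Ideal (MvPolynomial V k)) (hIJ : I ≤ J)
    (hJ : ringKrullDim (MvPolynomial V k ⧸ J) ≤ (r - 1 : ℕ))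
    (P : Ideal (MvPolynomial (Fin r) k)) [P.IsMaximal] :
    ∃ h : MvPolynomial (Fin r) k, h ≠ 0 ∧
      ∀ (L : Type w) [Field L] [Algebra k L] (ξ g : Fin r → L) (t : L) (y : Fin d → L),
        (∀ p ∈ P, aeval ξ p = 0) →
        (∀ q ∈ J, aeval (Sum.elim (fun i => ξ i + t ^ N * g i) (Sum.elim (fun _ : Unit => t) y)) q = 0) →
        aeval g h = 0 := by
  classical
  let A := MvPolynomial V k ⧸ J
  let κ := MvPolynomial (Fin r) k ⧸ P
  haveI : Module.Finite k κ := by
    letI : Field κ := Ideal.Quotient.field P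
    exact finite_of_finite_type_of_isJacobsonRing k κ
  let B := A ⊗[k] κ
  haveI : Module.Finite A B := inferInstance
  haveI : Algebra.IsIntegral A B := Algebra.IsIntegral.of_finite A B
  haveI : Algebra.FiniteType k B := Algebra.FiniteType.trans (R := k) (S := A) (A := B) inferInstance inferInstance
  have hdimB : ringKrullDim B ≤ (r - 1 : ℕ) := (EGA41Lib.ringKrullDim_le_of_integral (A := A) (B := B)).trans hJ
  have htu : IsUnit (Ideal.Quotient.mk J (X tt)) := by
    have h1 : (1 : MvPolynomial V k) ∈ I ⊔ Ideal.span {X tt} := ht0 ▸ Submodule.mem_top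
    obtain ⟨i, hi, z, hz, hiz⟩ := Submodule.mem_sup.1 h1
    obtain ⟨a, rfl⟩ := Ideal.mem_span_singleton.1 hz
    refine IsUnit.of_mul_eq_one (Ideal.Quotient.mk J a) ?_
    rw [← map_mul, ← sub_add_cancel (X tt * a) 1, map_add, map_one, add_eq_right,
      Ideal.Quotient.eq_zero_iff_mem]
    exact hIJ (by rw [show X tt * a - 1 = -i by linear_combination hiz]; exact neg_mem hi)
  obtain ⟨u, hu⟩ := htu
  let φ : MvPolynomial (Fin r) k →ₐ[k] B := aeval fun i =>
    ((Ideal.Quotient.mk J (X (Sum.inl i))) ⊗ₜ[k] (1 : κ) - (1 : A) ⊗ₜ[k] Ideal.Quotient.mk P (X i)) *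
      (((↑u⁻¹ : A) ^ N) ⊗ₜ[k] (1 : κ))
  have hker : ¬ Function.Injective φ := fun hinj => by
    have h1 := BertiniAff.le_ringKrullDim_of_injective (k := k) (B := B) (σ := ULift.{u} (Fin r))
      (φ.comp (rename (ULift.down : ULift.{u} (Fin r) → Fin r)))
      (by rw [AlgHom.coe_comp]; exact hinj.comp (rename_injective _ ULift.down_injective))
    rw [Fintype.card_ulift, Fintype.card_fin] at h1
    have h2 := h1.trans hdimB
    norm_cast at h2
    omega
  rw [injective_iff_map_eq_zero] at hker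
  push Not at hker
  obtain ⟨h, hh, hne⟩ := hker
  refine ⟨h, hne, fun L _ _ ξ g t y hξ hJv => ?_⟩
  let pt := Sum.elim (fun i => ξ i + t ^ N * g i) (Sum.elim (fun _ : Unit => t) y)
  let χA : A →ₐ[k] L := Ideal.Quotient.liftₐ J (aeval pt) hJv
  let χκ : κ →ₐ[k] L := Ideal.Quotient.liftₐ P (aeval ξ) hξ
  let χ : B →ₐ[k] L := Algebra.TensorProduct.lift χA χκ fun _ _ => Commute.all _ _
  have hχt : χA (Ideal.Quotient.mk J (X tt)) = t := (aeval_X pt tt).trans rfl
  have hχu : χA (↑u⁻¹ : A) * t = 1 := by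
    rw [← hχt, ← hu, ← map_mul, Units.inv_mul, map_one]
  have hcomp : χ.comp φ = aeval g := MvPolynomial.algHom_ext fun i => by
    have h1 : χA (Ideal.Quotient.mk J (X (Sum.inl i))) = ξ i + t ^ N * g i := (aeval_X pt _).trans rfl
    have h2 : χκ (Ideal.Quotient.mk P (X i)) = ξ i := (aeval_X ξ i).trans rfl
    rw [AlgHom.comp_apply]
    have h3 : ∀ a c, χ (a ⊗ₜ[k] c) = χA a * χκ c := fun a c => Algebra.TensorProduct.lift_tmul _ _ _ a c
    simp only [φ, aeval_X, map_mul, map_sub, h3, map_one, mul_one, one_mul, map_pow, h1, h2]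
    rw [add_sub_cancel_left, mul_comm, ← mul_assoc, ← mul_pow, hχu, one_pow, one_mul]
  rw [← hcomp, AlgHom.comp_apply, hh, map_zero]

/-- Algebraic elements come from the algebraic closure. -/
theorem mem_range_of_isAlgebraic {L : Type w} [Field L] [Algebra k L] (ι : AlgebraicClosure k →ₐ[k] L) {x : L}
    (hx : IsIntegral k x) : ∃ y, ι y = x := by
  have hroot : x ∈ (((minpoly k x).map (algebraMap k (AlgebraicClosure k))).map ι.toRingHom).roots := by
    rw [Polynomial.map_map, show ι.toRingHom.comp (algebraMap k (AlgebraicClosure k)) = algebraMap k L from RingHom.ext ι.commutes,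
      Polynomial.mem_roots_map (minpoly.ne_zero hx), ← Polynomial.aeval_def]
    exact minpoly.aeval k x
  rw [Polynomial.Splits.roots_map (IsAlgClosed.splits _)] at hroot
  obtain ⟨y, -, hy⟩ := Multiset.mem_map.1 hroot
  exact ⟨y, hy⟩

theorem exists_avoid_closure (I : Ideal (MvPolynomial V k)) (hI : I.IsPrime)
    (ht0 : I ⊔ Ideal.span {X tt} = ⊤)
    (hx : Ideal.comap (rename (Sum.inl : Fin r → V) : MvPolynomial (Fin r) k →ₐ[k] MvPolynomial V k) I ≠ ⊥)
    (ht : Ideal.comap (rename (fun _ : Unit => tt) : MvPolynomial Unit k →ₐ[k] MvPolynomial V k) I ≠ ⊥)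
    (P : Ideal (MvPolynomial (Fin r) k)) [P.IsMaximal] :
    ∃ h : MvPolynomial (Fin r) k, h ≠ 0 ∧
      ∀ (K : Type v) [Field K] [Algebra k K] (g : Fin r → K), aeval g h ≠ 0 →
        Ideal.comap (rename (Sum.inl : Fin r → V) : MvPolynomial (Fin r) K →ₐ[K] MvPolynomial V K)
            (Ideal.map (aeval
                (Sum.elim (fun i : Fin r => X (Sum.inl i) + X tt ^ N * C (g i))
                  (fun j : Unit ⊕ Fin d => X (Sum.inr j))) :
                MvPolynomial V k →ₐ[k] MvPolynomial V K) I) ⊔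
          Ideal.map (MvPolynomial.map (algebraMap k K) : MvPolynomial (Fin r) k →+* MvPolynomial (Fin r) K) P = ⊤ := by
  classical
  obtain ⟨f, hf, hf0⟩ := Submodule.exists_mem_ne_zero_of_ne_bot hx
  rw [Ideal.mem_comap] at hf
  -- a polynomial in `t` not vanishing at `0`
  obtain ⟨p, hp, hp0⟩ := Submodule.exists_mem_ne_zero_of_ne_bot ht
  rw [Ideal.mem_comap] at hp
  let eU := MvPolynomial.uniqueAlgEquiv k Unit
  obtain ⟨q', hq', hq'0⟩ := Polynomial.exists_eq_pow_rootMultiplicity_mul_and_not_dvd (eU p)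
    (fun h => hp0 (eU.injective (h.trans (map_zero eU).symm))) 0
  rw [map_zero, sub_zero] at hq' hq'0
  have htI : X tt ∉ I := fun h => hI.ne_top (by
    rw [← ht0, sup_eq_left.2 ((Ideal.span_singleton_le_iff_mem I).2 h)])
  have hgen : ∀ p' : MvPolynomial Unit k, Polynomial.aeval (X tt : MvPolynomial V k) (eU p') =
      rename (fun _ : Unit => tt) p' := fun p' => by
    show ((Polynomial.aeval (X tt : MvPolynomial V k)).comp eU.toAlgHom) p' = _
    congr 1
    refine MvPolynomial.algHom_ext fun i => ?_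
    simp [eU]
  have hqI : Polynomial.aeval (X tt : MvPolynomial V k) q' ∈ I := by
    have h1 := hgen p
    rw [hq', map_mul, map_pow, Polynomial.aeval_X] at h1
    exact ((hI.mem_or_mem (h1 ▸ hp)).resolve_left fun h => htI (hI.mem_of_pow_mem _ h))
  have hq0 : q' ≠ 0 := fun h => hq'0 (h ▸ dvd_zero _)
  let q := q' * Polynomial.C q'.leadingCoeff⁻¹
  have hqm : q.Monic := Polynomial.monic_mul_leadingCoeff_inv hq0
  have hqI' : Polynomial.aeval (X tt : MvPolynomial V k) q ∈ I := by
    rw [map_mul]; exact I.mul_mem_right _ hqI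
  -- the bad polynomial over the algebraic closure
  let Kb := AlgebraicClosure k
  let κ := MvPolynomial (Fin r) k ⧸ P
  letI : Field κ := Ideal.Quotient.field P
  haveI : Module.Finite k κ := finite_of_finite_type_of_isJacobsonRing k κ
  haveI : Fintype (κ →ₐ[k] Kb) := minpoly.AlgHom.fintype k κ Kb
  let T := (q.map (algebraMap k Kb)).roots.toFinset
  let Φ : (κ →ₐ[k] Kb) → Kb → MvPolynomial (Fin r) Kb := fun χ τ =>
    aeval (fun i => C (χ (Ideal.Quotient.mk P (X i))) + C (τ ^ N) * X i) f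
  have hTne : ∀ τ ∈ T, τ ≠ 0 := fun τ hτ h0 => by
    rw [Multiset.mem_toFinset, Polynomial.mem_roots_map hqm.ne_zero, h0, Polynomial.eval₂_at_zero,
      map_eq_zero, Polynomial.mul_coeff_zero, Polynomial.coeff_C_zero, mul_eq_zero] at hτ
    rcases hτ with h | h
    · exact hq'0 (Polynomial.X_dvd_iff.2 h)
    · exact hq0 (Polynomial.leadingCoeff_eq_zero.1 (inv_eq_zero.1 h))
  have hΦ : ∀ χ, ∀ τ ∈ T, Φ χ τ ≠ 0 := fun χ τ hτ h0 => hf0 (by
    apply MvPolynomial.map_injective (algebraMap k Kb) (algebraMap k Kb).injective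
    refine MvPolynomial.funext fun z => ?_
    rw [map_zero, map_zero, eval_map, ← aeval_def]
    have h1 := congrArg (eval fun i => (z i - χ (Ideal.Quotient.mk P (X i))) / τ ^ N) h0
    rw [map_zero] at h1
    rw [← h1]
    show _ = ((aeval fun i => (z i - χ (Ideal.Quotient.mk P (X i))) / τ ^ N :
      MvPolynomial (Fin r) Kb →ₐ[Kb] Kb).restrictScalars k) (aeval _ f)
    rw [← AlgHom.comp_apply, MvPolynomial.comp_aeval]
    congr 1
    refine MvPolynomial.algHom_ext fun i => ?_
    simp [mul_div_cancel₀ _ (pow_ne_zero N (hTne τ hτ))])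
  let F := ∏ χ : κ →ₐ[k] Kb, ∏ τ ∈ T, Φ χ τ
  have hF : F ≠ 0 := Finset.prod_ne_zero_iff.2 fun χ _ => Finset.prod_ne_zero_iff.2 fun τ hτ => hΦ χ τ hτ
  letI : Algebra (MvPolynomial (Fin r) k) (MvPolynomial (Fin r) Kb) := MvPolynomial.algebraMvPolynomial
  haveI : IsScalarTower k (MvPolynomial (Fin r) k) (MvPolynomial (Fin r) Kb) :=
    IsScalarTower.of_algebraMap_eq fun a => by
      rw [MvPolynomial.algebraMap_def, MvPolynomial.algebraMap_eq, MvPolynomial.map_C,
        IsScalarTower.algebraMap_apply k Kb (MvPolynomial (Fin r) Kb), MvPolynomial.algebraMap_eq]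
  have hint : ∀ z : MvPolynomial (Fin r) Kb, IsIntegral (MvPolynomial (Fin r) k) z := fun z => by
    induction z using MvPolynomial.induction_on with
    | C a =>
      exact (((Algebra.IsIntegral.isIntegral (R := k) a)).map
        (IsScalarTower.toAlgHom k Kb (MvPolynomial (Fin r) Kb))).tower_top
    | add a b ha hb => exact ha.add hb
    | mul_X a i ha =>
      refine ha.mul ?_
      rw [show (X i : MvPolynomial (Fin r) Kb) = algebraMap (MvPolynomial (Fin r) k) _ (X i) by
        rw [MvPolynomial.algebraMap_def, MvPolynomial.map_X]]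
      exact isIntegral_algebraMap
  obtain ⟨h, hh, hne⟩ := Submodule.exists_mem_ne_zero_of_ne_bot
    (Ideal.comap_ne_bot_of_integral_mem (R := MvPolynomial (Fin r) k) hF (Ideal.mem_span_singleton_self F) (hint F))
  rw [Ideal.mem_comap, Ideal.mem_span_singleton] at hh
  refine ⟨h, hne, fun K _ _ g hg => ?_⟩
  by_contra htop
  obtain ⟨M, hM, hle⟩ := Ideal.exists_le_maximal _ htop
  let qK : Polynomial (MvPolynomial (Fin r) K) := q.map (algebraMap k _)
  let S := AdjoinRoot qK
  haveI : Module.Finite (MvPolynomial (Fin r) K) S := (hqm.map _).finite_adjoinRoot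
  haveI : Algebra.IsIntegral (MvPolynomial (Fin r) K) S := Algebra.IsIntegral.of_finite _ _
  let fS : S := aeval (fun i => algebraMap (MvPolynomial (Fin r) K) S (X i) +
    AdjoinRoot.root qK ^ N * algebraMap K S (g i)) f
  let Ig := Ideal.map (aeval (Sum.elim (fun i : Fin r => X (Sum.inl i) + X tt ^ N * C (g i))
    (fun j : Unit ⊕ Fin d => X (Sum.inr j))) : MvPolynomial V k →ₐ[k] MvPolynomial V K) I
  let Θ := aeval (R := k) (Sum.elim (fun i : Fin r => X (Sum.inl i) + X tt ^ N * C (g i))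
    (fun j : Unit ⊕ Fin d => (X (Sum.inr j) : MvPolynomial V K)))
  let ren : MvPolynomial (Fin r) K →+* MvPolynomial V K ⧸ Ig :=
    (Ideal.Quotient.mk Ig).comp (rename (Sum.inl : Fin r → V) : MvPolynomial (Fin r) K →ₐ[K] MvPolynomial V K).toRingHom
  have hroot : qK.eval₂ ren (Ideal.Quotient.mk Ig (X tt)) = 0 := by
    have h1 : Θ (Polynomial.aeval (X tt) q) ∈ Ig := Ideal.mem_map_of_mem _ hqI'
    rw [← Polynomial.aeval_algHom_apply, show Θ (X tt) = X tt from aeval_X _ _] at h1
    rw [← Ideal.Quotient.eq_zero_iff_mem, Polynomial.aeval_def, Polynomial.hom_eval₂] at h1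
    rw [Polynomial.eval₂_map, ← h1]
    congr 1
    refine RingHom.ext fun a => ?_
    show Ideal.Quotient.mk Ig (rename Sum.inl (algebraMap k (MvPolynomial (Fin r) K) a)) =
      Ideal.Quotient.mk Ig (algebraMap k (MvPolynomial V K) a)
    rw [IsScalarTower.algebraMap_apply k K (MvPolynomial (Fin r) K), AlgHom.commutes,
      ← IsScalarTower.algebraMap_apply]
  let θ : S →+* MvPolynomial V K ⧸ Ig := AdjoinRoot.lift ren _ hroot
  have hθK : ∀ a : K, θ (algebraMap K S a) = Ideal.Quotient.mk Ig (C a) := fun a => by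
    rw [IsScalarTower.algebraMap_apply K (MvPolynomial (Fin r) K) S, AdjoinRoot.algebraMap_eq, AdjoinRoot.lift_of]
    show Ideal.Quotient.mk Ig (rename Sum.inl (C a)) = _
    rw [rename_C]
  have hθk : ∀ a : k, θ (algebraMap k S a) = algebraMap k _ a := fun a => by
    rw [IsScalarTower.algebraMap_apply k K S, hθK]
    show Ideal.Quotient.mk Ig (C (algebraMap k K a)) = Ideal.Quotient.mk Ig (algebraMap k (MvPolynomial V K) a)
    rw [IsScalarTower.algebraMap_apply k K (MvPolynomial V K), MvPolynomial.algebraMap_eq]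
  have hθf : θ fS = 0 := by
    let θa : S →ₐ[k] MvPolynomial V K ⧸ Ig := { θ with commutes' := hθk }
    show θa (aeval _ f) = 0
    rw [← AlgHom.comp_apply, MvPolynomial.comp_aeval]
    have h1 : Θ (rename Sum.inl f) ∈ Ig := Ideal.mem_map_of_mem _ hf
    rw [← Ideal.Quotient.eq_zero_iff_mem, aeval_rename] at h1
    rw [← h1, ← Ideal.Quotient.mkₐ_eq_mk k, ← AlgHom.comp_apply (Ideal.Quotient.mkₐ k Ig),
      MvPolynomial.comp_aeval]
    congr 2
    funext i
    show θ (algebraMap (MvPolynomial (Fin r) K) S (X i) + AdjoinRoot.root qK ^ N * algebraMap K S (g i)) = _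
    rw [map_add, map_mul, map_pow, hθK, AdjoinRoot.algebraMap_eq, AdjoinRoot.lift_of, AdjoinRoot.lift_root]
    simp [ren]
  have hcomap : (Ideal.span {fS}).comap (algebraMap (MvPolynomial (Fin r) K) S) ≤ M := fun z hz => by
    refine hle (Ideal.mem_sup_left ?_)
    rw [Ideal.mem_comap] at hz ⊢
    obtain ⟨c, hc⟩ := Ideal.mem_span_singleton.1 hz
    rw [← Ideal.Quotient.eq_zero_iff_mem]
    have h1 := congrArg θ hc
    rw [map_mul, hθf, zero_mul, AdjoinRoot.algebraMap_eq, AdjoinRoot.lift_of] at h1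
    exact h1
  obtain ⟨Q, hfQ, hQ, hQM⟩ := Ideal.exists_ideal_over_prime_of_isIntegral (S := S) M (Ideal.span {fS}) hcomap
  haveI := hQ
  let L := AlgebraicClosure (FractionRing (S ⧸ Q))
  let π : S →ₐ[k] L := (IsScalarTower.toAlgHom k (S ⧸ Q) L).comp (Ideal.Quotient.mkₐ k Q)
  have hπQ : ∀ z ∈ Q, π z = 0 := fun z hz => by
    show algebraMap (S ⧸ Q) L (Ideal.Quotient.mk Q z) = 0
    rw [Ideal.Quotient.eq_zero_iff_mem.2 hz, map_zero]
  let ξ : Fin r → L := fun i => π (algebraMap (MvPolynomial (Fin r) K) S (X i))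
  have hξ : ∀ z ∈ P, aeval ξ z = 0 := fun z hz => by
    have h1 : algebraMap (MvPolynomial (Fin r) K) S (MvPolynomial.map (algebraMap k K) z) ∈ Q := by
      have : MvPolynomial.map (algebraMap k K) z ∈ M := hle (Ideal.mem_sup_right (Ideal.mem_map_of_mem _ hz))
      rw [← hQM] at this
      exact this
    rw [← hπQ _ h1]
    show _ = (π.comp ((IsScalarTower.toAlgHom k (MvPolynomial (Fin r) K) S).comp
      (MvPolynomial.mapAlgHom (R := k) (Algebra.ofId k K)))) z
    congr 1
    refine MvPolynomial.algHom_ext fun i => ?_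
    simp [ξ]
  let χL : κ →ₐ[k] L := Ideal.Quotient.liftₐ P (aeval ξ) hξ
  let ι : Kb →ₐ[k] L := IsAlgClosed.lift
  have hιinj : Function.Injective ⇑ι := RingHom.injective ι.toRingHom
  choose pre hpre using fun z : κ => mem_range_of_isAlgebraic ι ((IsIntegral.of_finite k z).map χL)
  let χ : κ →ₐ[k] Kb :=
    { toFun := pre
      map_one' := hιinj (by rw [hpre, map_one, map_one])
      map_mul' := fun a b => hιinj (by rw [map_mul ι, hpre, hpre, hpre, map_mul])
      map_zero' := hιinj (by rw [hpre, map_zero, map_zero])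
      map_add' := fun a b => hιinj (by rw [map_add ι, hpre, hpre, hpre, map_add])
      commutes' := fun a => hιinj (by rw [hpre, AlgHom.commutes, AlgHom.commutes]) }
  have hτint : IsIntegral k (π (AdjoinRoot.root qK)) := ⟨q, hqm, by
    rw [← Polynomial.aeval_def, Polynomial.aeval_algHom_apply]
    have : Polynomial.aeval (AdjoinRoot.root qK) q = 0 := by
      rw [← Polynomial.aeval_map_algebraMap (MvPolynomial (Fin r) K), Polynomial.aeval_def, AdjoinRoot.algebraMap_eq]
      exact AdjoinRoot.eval₂_root qK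
    rw [this, map_zero]⟩
  obtain ⟨τ, hτ⟩ := mem_range_of_isAlgebraic ι hτint
  have hτT : τ ∈ T := by
    rw [Multiset.mem_toFinset, Polynomial.mem_roots_map hqm.ne_zero, ← Polynomial.aeval_def]
    apply hιinj
    rw [map_zero, ← Polynomial.aeval_algHom_apply, hτ, Polynomial.aeval_algHom_apply]
    rw [← Polynomial.aeval_map_algebraMap (MvPolynomial (Fin r) K), Polynomial.aeval_def, AdjoinRoot.algebraMap_eq,
      AdjoinRoot.eval₂_root, map_zero]
  let gL : Fin r → L := fun i => π (algebraMap K S (g i))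
  let EV : MvPolynomial (Fin r) Kb →+* L := eval₂Hom ι.toRingHom gL
  have hEV : EV (Φ χ τ) = 0 := by
    have hcomm : ∀ a : k, EV (algebraMap k (MvPolynomial (Fin r) Kb) a) = algebraMap k L a := fun a => by
      rw [IsScalarTower.algebraMap_apply k Kb (MvPolynomial (Fin r) Kb), MvPolynomial.algebraMap_eq]
      exact (eval₂Hom_C _ _ _).trans (ι.commutes a)
    let EVa : MvPolynomial (Fin r) Kb →ₐ[k] L := { EV with commutes' := hcomm }
    show EVa (aeval _ f) = 0
    rw [← hπQ fS (hfQ (Ideal.mem_span_singleton_self fS)), ← AlgHom.comp_apply, MvPolynomial.comp_aeval]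
    show _ = π (aeval _ f)
    rw [← AlgHom.comp_apply π, MvPolynomial.comp_aeval]
    congr 2
    funext i
    show EV (C (χ (Ideal.Quotient.mk P (X i))) + C (τ ^ N) * X i) = _
    simp only [EV, map_add, map_mul, eval₂Hom_C, eval₂Hom_X', map_pow]
    show ι (pre _) + ι τ ^ N * gL i = _
    rw [hpre, hτ]
    show aeval ξ (X i) + _ = _
    rw [aeval_X]
  apply hg
  obtain ⟨c, hc⟩ := hh
  have h2 := congrArg EV hc
  rw [map_mul, map_prod, Finset.prod_eq_zero (Finset.mem_univ χ)
    (by rw [map_prod]; exact Finset.prod_eq_zero hτT hEV), zero_mul, MvPolynomial.algebraMap_def] at h2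
  let ρ : K →+* L := π.toRingHom.comp (algebraMap K S)
  apply ρ.injective
  rw [map_zero, ← h2]
  show ρ (aeval g h) = EV (MvPolynomial.map (algebraMap k Kb) h)
  rw [map_aeval]
  show eval₂Hom _ _ h = eval₂Hom _ _ _
  rw [eval₂Hom_map_hom]
  congr 2
  refine RingHom.ext fun a => ?_
  show π (algebraMap K S (algebraMap k K a)) = ι (algebraMap k Kb a)
  rw [← IsScalarTower.algebraMap_apply, AlgHom.commutes, AlgHom.commutes]

end Groth.Agent.MovLemLib
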